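import Mathlib

/-!
# The analytic node `D[[x, y]] / (x y - d)` over a complete local domain is a domain
-/

set_option autoImplicit false
set_option linter.style.haveILetI false
set_option linter.unusedSectionVars false

universe u

open IsLocalRing

namespace Groth.Agent.NodeAnalytic

/-- The exponent of `x ^ i * y ^ j`. -/
noncomputable def idx (i j : ℕ) : Fin 2 →₀ ℕ := Finsupp.single 0 i + Finsupp.single 1 j

@[simp] theorem idx_zero (i j : ℕ) : idx i j 0 = i := by simp [idx]

@[simp] theorem idx_one (i j : ℕ) : idx i j 1 = j := by simp [idx]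

theorem idx_eta (e : Fin 2 →₀ ℕ) : idx (e 0) (e 1) = e := by
  ext a; fin_cases a <;> simp

theorem idx_add (i j k l : ℕ) : idx i j + idx k l = idx (i + k) (j + l) := by
  ext a; fin_cases a <;> simp

variable {D : Type u} [CommRing D] [IsLocalRing D] [IsNoetherianRing D] [IsAdicComplete (maximalIdeal D) D]
  {d : D} (hd : d ∈ maximalIdeal D)

include hd in
theorem exists_sumd (c : ℕ → D) :
    ∃ L : D, ∀ n, L - ∑ k ∈ Finset.range n, d ^ k * c k ∈ maximalIdeal D ^ n := by
  obtain ⟨L, hL⟩ := IsPrecomplete.prec (inferInstance : IsPrecomplete (maximalIdeal D) D)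
    (f := fun n => ∑ k ∈ Finset.range n, d ^ k * c k) (fun {a b} hab => by
      rw [SModEq.sub_mem, smul_eq_mul, Ideal.mul_top, ← neg_sub, ← Finset.sum_Ico_eq_sub _ hab]
      refine neg_mem (Ideal.sum_mem _ fun k hk => Ideal.mul_mem_right _ _ ?_)
      exact Ideal.pow_le_pow_right (Finset.mem_Ico.mp hk).1 (Ideal.pow_mem_pow hd k))
  refine ⟨L, fun n => ?_⟩
  have h := SModEq.sub_mem.mp (hL n)
  rw [smul_eq_mul, Ideal.mul_top] at h
  simpa [neg_sub] using neg_mem h

/-- The sum of the series `∑ c k * d ^ k`. -/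
noncomputable def sumd (c : ℕ → D) : D := (exists_sumd hd c).choose

theorem sumd_spec (c : ℕ → D) (n : ℕ) :
    sumd hd c - ∑ k ∈ Finset.range n, d ^ k * c k ∈ maximalIdeal D ^ n :=
  (exists_sumd hd c).choose_spec n

/-- Ideals are closed. -/
theorem mem_of_forall_exists (I : Ideal D) {L : D} (h : ∀ n, ∃ a ∈ I, L - a ∈ maximalIdeal D ^ n) :
    L ∈ I := by
  by_contra hL
  have hI : I ≤ maximalIdeal D := le_maximalIdeal fun htop => hL (htop ▸ Submodule.mem_top)
  haveI : Nontrivial (D ⧸ I) := Ideal.Quotient.nontrivial_iff.2 fun htop => hL (htop ▸ Submodule.mem_top)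
  haveI : IsLocalRing (D ⧸ I) := IsLocalRing.of_surjective' (Ideal.Quotient.mk I) Ideal.Quotient.mk_surjective
  have hne : (maximalIdeal D).map (Ideal.Quotient.mk I) ≠ ⊤ := fun htop => by
    have h1 := congrArg (Ideal.comap (Ideal.Quotient.mk I)) htop
    rw [Ideal.comap_map_of_surjective _ Ideal.Quotient.mk_surjective, ← RingHom.ker_eq_comap_bot,
      Ideal.mk_ker, Ideal.comap_top, sup_eq_left.2 hI] at h1
    exact (IsLocalRing.maximalIdeal.isMaximal D).ne_top h1
  refine hL (Ideal.Quotient.eq_zero_iff_mem.1 ?_)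
  rw [← Ideal.mem_bot, ← Ideal.iInf_pow_eq_bot_of_isLocalRing _ hne, Submodule.mem_iInf]
  intro n
  obtain ⟨a, ha, hLa⟩ := h n
  rw [← Ideal.map_pow]
  have h2 := Ideal.mem_map_of_mem (Ideal.Quotient.mk I) hLa
  rwa [map_sub, Ideal.Quotient.eq_zero_iff_mem.2 ha, sub_zero] at h2

theorem eq_of_forall_sub_mem {x y : D} (h : ∀ n, x - y ∈ maximalIdeal D ^ n) : x = y :=
  sub_eq_zero.1 ((Submodule.mem_bot D).1 (mem_of_forall_exists ⊥ fun n => ⟨0, zero_mem _, by simpa using h n⟩))

theorem mul_sumd_mem (I : Ideal D) (c : ℕ → D) (a : D) (h : ∀ k, a * (d ^ k * c k) ∈ I) : a * sumd hd c ∈ I :=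
  mem_of_forall_exists I fun n => ⟨a * ∑ k ∈ Finset.range n, d ^ k * c k,
    by rw [Finset.mul_sum]; exact Ideal.sum_mem _ fun k _ => h k,
    by rw [← mul_sub]; exact Ideal.mul_mem_left _ _ (sumd_spec hd c n)⟩

theorem sumd_congr {c c' : ℕ → D} (h : ∀ k, c k = c' k) : sumd hd c = sumd hd c' := by rw [funext h]

theorem sumd_eq (c : ℕ → D) : sumd hd c = c 0 + d * sumd hd fun k => c (k + 1) := by
  refine eq_of_forall_sub_mem fun n => ?_
  have e : sumd hd c - (c 0 + d * sumd hd fun k => c (k + 1)) =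
      (sumd hd c - ∑ k ∈ Finset.range (n + 1), d ^ k * c k) -
        d * ((sumd hd fun k => c (k + 1)) - ∑ k ∈ Finset.range n, d ^ k * c (k + 1)) := by
    rw [Finset.sum_range_succ', mul_sub, Finset.mul_sum]
    simp only [pow_succ', mul_assoc, pow_zero, one_mul]
    abel
  rw [e]
  exact sub_mem (Ideal.pow_le_pow_right n.le_succ (sumd_spec hd c (n + 1)))
    (Ideal.mul_mem_left _ _ (sumd_spec hd _ n))

theorem sumd_zero : sumd hd (fun _ => (0 : D)) = 0 :=
  eq_of_forall_sub_mem fun n => by simpa using sumd_spec hd (fun _ => (0 : D)) n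

theorem sumd_sub (c c' : ℕ → D) : sumd hd (fun k => c k - c' k) = sumd hd c - sumd hd c' := by
  refine eq_of_forall_sub_mem fun n => ?_
  have e : sumd hd (fun k => c k - c' k) - (sumd hd c - sumd hd c') =
      (sumd hd (fun k => c k - c' k) - ∑ k ∈ Finset.range n, d ^ k * (c k - c' k)) -
        ((sumd hd c - ∑ k ∈ Finset.range n, d ^ k * c k) - (sumd hd c' - ∑ k ∈ Finset.range n, d ^ k * c' k)) := by
    simp only [mul_sub, Finset.sum_sub_distrib]
    abel
  rw [e]
  exact sub_mem (sumd_spec hd _ n) (sub_mem (sumd_spec hd _ n) (sumd_spec hd _ n))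

theorem sumd_mul (a : D) (c : ℕ → D) : sumd hd (fun k => a * c k) = a * sumd hd c := by
  refine eq_of_forall_sub_mem fun n => ?_
  have e : sumd hd (fun k => a * c k) - a * sumd hd c =
      (sumd hd (fun k => a * c k) - ∑ k ∈ Finset.range n, d ^ k * (a * c k)) -
        a * (sumd hd c - ∑ k ∈ Finset.range n, d ^ k * c k) := by
    simp only [mul_sub, Finset.mul_sum, mul_left_comm a]
    abel
  rw [e]
  exact sub_mem (sumd_spec hd _ n) (Ideal.mul_mem_left _ _ (sumd_spec hd _ n))

/-- The equation of the node. -/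
noncomputable def node (d : D) : MvPowerSeries (Fin 2) D :=
  MvPowerSeries.X 0 * MvPowerSeries.X 1 - MvPowerSeries.C d

theorem coeff_node_mul (q : MvPowerSeries (Fin 2) D) (i j : ℕ) :
    MvPowerSeries.coeff (idx i j) (node d * q) =
      (if 1 ≤ i ∧ 1 ≤ j then MvPowerSeries.coeff (idx (i - 1) (j - 1)) q else 0) -
        d * MvPowerSeries.coeff (idx i j) q := by
  have hxy : (MvPowerSeries.X 0 * MvPowerSeries.X 1 : MvPowerSeries (Fin 2) D) =
      MvPowerSeries.monomial (idx 1 1) 1 := by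
    rw [MvPowerSeries.X, MvPowerSeries.X, MvPowerSeries.monomial_mul_monomial, one_mul, idx]
  have hle : idx 1 1 ≤ idx i j ↔ (1 ≤ i ∧ 1 ≤ j) := by
    constructor
    · intro h; exact ⟨by simpa using h 0, by simpa using h 1⟩
    · intro h a; fin_cases a <;> simp [h.1, h.2]
  have hsub : idx i j - idx 1 1 = idx (i - 1) (j - 1) := by
    ext a; fin_cases a <;> simp
  rw [node, sub_mul, map_sub, hxy, MvPowerSeries.coeff_monomial_mul, MvPowerSeries.coeff_C_mul, hsub, one_mul]
  simp only [hle]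

/-- The coefficient of the monomial of weight `N` in the expansion at `y = d / x`. -/
noncomputable def cN (f : MvPowerSeries (Fin 2) D) (N : ℤ) : D :=
  d ^ (-N).toNat * sumd hd fun k => MvPowerSeries.coeff (idx (N.toNat + k) ((-N).toNat + k)) f

theorem cN_node_mul (q : MvPowerSeries (Fin 2) D) (N : ℤ) : cN hd (node d * q) N = 0 := by
  have hab : N.toNat = 0 ∨ (-N).toNat = 0 := by omega
  unfold cN
  set a := N.toNat
  set b := (-N).toNat
  have h : (sumd hd fun k => MvPowerSeries.coeff (idx (a + k) (b + k)) (node d * q)) = 0 := by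
    rw [sumd_congr hd (fun k => coeff_node_mul q (a + k) (b + k)), sumd_sub, sumd_mul, sub_eq_zero, sumd_eq,
      if_neg (by omega), zero_add]
    congr 1
  rw [h, mul_zero]

include hd in
theorem exists_reduced (f : MvPowerSeries (Fin 2) D) :
    ∃ f' q : MvPowerSeries (Fin 2) D, f = f' + node d * q ∧
      ∀ i j, 1 ≤ i → 1 ≤ j → MvPowerSeries.coeff (idx i j) f' = 0 := by
  let q : MvPowerSeries (Fin 2) D := fun e =>
    sumd hd fun k => MvPowerSeries.coeff (idx (e 0 + 1 + k) (e 1 + 1 + k)) f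
  have hq : ∀ i j, MvPowerSeries.coeff (idx i j) q =
      sumd hd fun k => MvPowerSeries.coeff (idx (i + 1 + k) (j + 1 + k)) f := fun i j => by
    show q (idx i j) = _
    simp [q]
  refine ⟨f - node d * q, q, by abel, fun i j hi hj => ?_⟩
  rw [map_sub, coeff_node_mul, if_pos ⟨hi, hj⟩, hq, hq, sumd_eq]
  have e1 : ∀ x : ℕ, 1 ≤ x → x - 1 + 1 + 0 = x := fun x hx => by omega
  rw [e1 i hi, e1 j hj, sumd_congr hd (c' := fun k => MvPowerSeries.coeff (idx (i + 1 + k) (j + 1 + k)) f)
    fun k => by congr 3 <;> omega]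
  ring

theorem cN_of_reduced {f : MvPowerSeries (Fin 2) D}
    (hf : ∀ i j, 1 ≤ i → 1 ≤ j → MvPowerSeries.coeff (idx i j) f = 0) {i j : ℕ} (hij : i = 0 ∨ j = 0) :
    cN hd f ((i : ℤ) - j) = d ^ j * MvPowerSeries.coeff (idx i j) f := by
  have ha : ((i : ℤ) - j).toNat = i := by omega
  have hb : (-((i : ℤ) - j)).toNat = j := by omega
  rw [cN, ha, hb, sumd_eq]
  have h0 : (sumd hd fun k => MvPowerSeries.coeff (idx (i + (k + 1)) (j + (k + 1))) f) = 0 := by
    rw [sumd_congr hd (c' := fun _ => 0) fun k => hf _ _ (by omega) (by omega), sumd_zero]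
  rw [h0, mul_zero, add_zero, add_zero, add_zero]

theorem pow_dvd_cN (f : MvPowerSeries (Fin 2) D) (N : ℤ) : d ^ (-N).toNat ∣ cN hd f N := Dvd.intro _ rfl

theorem cN_sub (u v : MvPowerSeries (Fin 2) D) (N : ℤ) : cN hd (u - v) N = cN hd u N - cN hd v N := by
  simp only [cN, map_sub, sumd_sub, mul_sub]

theorem cN_add_node_mul (f q : MvPowerSeries (Fin 2) D) (N : ℤ) : cN hd (f + node d * q) N = cN hd f N := by
  have h := cN_sub hd (f + node d * q) f N
  rw [add_sub_cancel_left, cN_node_mul] at h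
  exact sub_eq_zero.1 h.symm

variable [IsDomain D]

theorem mem_span_node_iff (hd0 : d ≠ 0) (f : MvPowerSeries (Fin 2) D) :
    f ∈ Ideal.span {node d} ↔ ∀ N, cN hd f N = 0 := by
  rw [Ideal.mem_span_singleton']
  constructor
  · rintro ⟨q, rfl⟩ N
    rw [mul_comm]
    exact cN_node_mul hd q N
  · intro h
    obtain ⟨f', q, rfl, hred⟩ := exists_reduced hd f
    refine ⟨q, ?_⟩
    have hf' : f' = 0 := by
      ext e
      rw [map_zero, ← idx_eta e]
      rcases Nat.eq_zero_or_pos (e 0) with h0 | h0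
      swap
      rcases Nat.eq_zero_or_pos (e 1) with h1 | h1
      swap
      · exact hred _ _ h0 h1
      all_goals
        have hij : e 0 = 0 ∨ e 1 = 0 := by omega
        have h2 := h ((e 0 : ℤ) - e 1)
        have h3 : cN hd f' ((e 0 : ℤ) - e 1) = 0 := by rwa [cN_add_node_mul] at h2
        rw [cN_of_reduced hd hred hij, mul_eq_zero] at h3
        exact h3.resolve_left (pow_ne_zero _ hd0)
    rw [hf', zero_add, mul_comm]

/-- The leading index. -/
theorem exists_leading {V : Type u} [CommRing V] [IsDomain V] [IsDiscreteValuationRing V] (ι : D →+* V)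
    (hι : Function.Injective ι) (hιd : ι d ∈ maximalIdeal V) {c : ℤ → D} (hc : ∀ N, d ^ (-N).toNat ∣ c N)
    {N₁ : ℤ} (hN₁ : c N₁ ≠ 0) :
    ∃ (α : ℕ) (n : ℤ), (∀ N, ι (c N) ∈ maximalIdeal V ^ α) ∧ ι (c n) ∉ maximalIdeal V ^ (α + 1) ∧
      ∀ N < n, ι (c N) ∈ maximalIdeal V ^ (α + 1) := by
  classical
  have hsep : ∀ x : V, x ≠ 0 → ∃ a, x ∉ maximalIdeal V ^ (a + 1) := fun x hx => by
    by_contra h
    push Not at h
    refine hx ((Submodule.mem_bot V).1 ?_)
    rw [← Ideal.iInf_pow_eq_bot_of_isLocalRing (maximalIdeal V) (IsLocalRing.maximalIdeal.isMaximal V).ne_top,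
      Submodule.mem_iInf]
    exact fun a => Ideal.pow_le_pow_right a.le_succ (h a)
  have hex : ∃ a, ∃ N, ι (c N) ∉ maximalIdeal V ^ (a + 1) :=
    let ⟨a, ha⟩ := hsep _ (fun h => hN₁ (hι (h.trans (map_zero ι).symm)))
    ⟨a, N₁, ha⟩
  obtain ⟨N₂, hN₂⟩ := Nat.find_spec hex
  set α := Nat.find hex
  have hall : ∀ N, ι (c N) ∈ maximalIdeal V ^ α := fun N => by
    rcases Nat.eq_zero_or_pos α with hα | hα
    · rw [hα, pow_zero, Ideal.one_eq_top]; exact Submodule.mem_top
    · by_contra h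
      exact Nat.find_min hex (show α - 1 < α by omega) ⟨N, by rwa [Nat.sub_add_cancel hα]⟩
  have hbdd : ∀ N : ℤ, ι (c N) ∉ maximalIdeal V ^ (α + 1) → -(α : ℤ) - 1 ≤ N := fun N hN => by
    by_contra hlt
    obtain ⟨w, hw⟩ := hc N
    refine hN ?_
    rw [hw, map_mul, map_pow]
    exact Ideal.mul_mem_right _ _ (Ideal.pow_le_pow_right (by omega) (Ideal.pow_mem_pow hιd _))
  have hex2 : ∃ k : ℕ, ι (c (-(α : ℤ) - 1 + k)) ∉ maximalIdeal V ^ (α + 1) :=
    ⟨(N₂ + α + 1).toNat, by
      have := hbdd N₂ hN₂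
      rwa [show -(α : ℤ) - 1 + ((N₂ + α + 1).toNat : ℕ) = N₂ by omega]⟩
  refine ⟨α, -(α : ℤ) - 1 + Nat.find hex2, hall, Nat.find_spec hex2, fun N hN => ?_⟩
  by_contra h
  have := hbdd N h
  exact Nat.find_min hex2 (show (N + α + 1).toNat < Nat.find hex2 by omega)
    (by rwa [show -(α : ℤ) - 1 + ((N + α + 1).toNat : ℕ) = N by omega])

theorem mul_notMem_pow {V : Type u} [CommRing V] [IsDomain V] [IsDiscreteValuationRing V] {a b : V} {α β : ℕ}
    (ha : a ∈ maximalIdeal V ^ α) (ha' : a ∉ maximalIdeal V ^ (α + 1)) (hb : b ∈ maximalIdeal V ^ β)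
    (hb' : b ∉ maximalIdeal V ^ (β + 1)) : a * b ∉ maximalIdeal V ^ (α + β + 1) := by
  obtain ⟨ϖ, hϖ⟩ := IsDiscreteValuationRing.exists_irreducible V
  rw [hϖ.maximalIdeal_eq, Ideal.span_singleton_pow, Ideal.mem_span_singleton] at ha ha' hb hb' ⊢
  obtain ⟨u, rfl⟩ := ha
  obtain ⟨v, rfl⟩ := hb
  have hu : ¬ ϖ ∣ u := fun h => ha' (by rw [pow_succ]; exact mul_dvd_mul_left _ h)
  have hv : ¬ ϖ ∣ v := fun h => hb' (by rw [pow_succ]; exact mul_dvd_mul_left _ h)
  rw [show ϖ ^ α * u * (ϖ ^ β * v) = ϖ ^ (α + β) * (u * v) by ring, pow_succ,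
    mul_dvd_mul_iff_left (pow_ne_zero _ hϖ.ne_zero)]
  exact fun h => (hϖ.prime.dvd_or_dvd h).elim hu hv

include hd in
/-- The node over a complete local domain with a discrete valuation centred on the maximal ideal is a domain. -/
theorem isPrime_span_node (hd0 : d ≠ 0) {V : Type u} [CommRing V] [IsDomain V] [IsDiscreteValuationRing V]
    (ι : D →+* V) (hι : Function.Injective ι) (hιd : ι d ∈ maximalIdeal V) :
    (Ideal.span {node d}).IsPrime := by
  classical
  refine ⟨fun htop => ?_, fun {F G} hFG => ?_⟩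
  · obtain ⟨q, hq⟩ := Ideal.mem_span_singleton'.1 ((Ideal.eq_top_iff_one _).1 htop)
    have h := congrArg MvPowerSeries.constantCoeff hq
    simp only [node, map_mul, map_sub, MvPowerSeries.constantCoeff_X, MvPowerSeries.constantCoeff_C, map_one,
      mul_zero, zero_sub] at h
    exact (mem_maximalIdeal d).1 hd (IsUnit.of_mul_eq_one (-(MvPowerSeries.constantCoeff q)) (by linear_combination h))
  by_contra hcon
  rw [not_or] at hcon
  obtain ⟨f, qf, rfl, hf⟩ := exists_reduced hd F
  obtain ⟨h, qh, rfl, hh⟩ := exists_reduced hd G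
  have hF : ∃ N, cN hd f N ≠ 0 := by
    by_contra hall
    push Not at hall
    exact hcon.1 ((mem_span_node_iff hd hd0 _).2 fun N => by rw [cN_add_node_mul, hall])
  have hG : ∃ N, cN hd h N ≠ 0 := by
    by_contra hall
    push Not at hall
    exact hcon.2 ((mem_span_node_iff hd hd0 _).2 fun N => by rw [cN_add_node_mul, hall])
  obtain ⟨N₁, hN₁⟩ := hF
  obtain ⟨N₂, hN₂⟩ := hG
  obtain ⟨α, n, hα, hn, hnmin⟩ := exists_leading ι hι hιd (pow_dvd_cN hd f) hN₁
  obtain ⟨β, m, hβ, hm, hmmin⟩ := exists_leading ι hι hιd (pow_dvd_cN hd h) hN₂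
  let I : Ideal D := (maximalIdeal V ^ (α + β + 1)).comap ι
  have hnot : cN hd f n * cN hd h m ∉ I := fun hmem => by
    rw [Ideal.mem_comap, map_mul] at hmem
    exact mul_notMem_pow (hα n) hn (hβ m) hm hmem
  have hzero : cN hd (f * h) (n + m) = 0 := by
    refine (mem_span_node_iff hd hd0 _).1 ?_ (n + m)
    have e : f * h = (f + node d * qf) * (h + node d * qh) -
        node d * (qf * h + (f + node d * qf) * qh) := by ring
    rw [e]
    exact sub_mem hFG (Ideal.mul_mem_right _ _ (Ideal.mem_span_singleton_self _))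
  -- the terms
  let a := (n + m).toNat
  let b := (-(n + m)).toNat
  let e₁ : Fin 2 →₀ ℕ := idx n.toNat (-n).toNat
  let e₂ : Fin 2 →₀ ℕ := idx m.toNat (-m).toNat
  obtain ⟨K₀, hK₁, hK₂⟩ : ∃ K₀, a + K₀ = n.toNat + m.toNat ∧ b + K₀ = (-n).toNat + (-m).toNat :=
    ⟨(-n).toNat + (-m).toNat - b, by omega, by omega⟩
  have he : e₁ + e₂ = idx (a + K₀) (b + K₀) := by rw [idx_add, hK₁, hK₂]
  -- a product of two terms in weight `n + m`
  have hterm : ∀ (K : ℕ) (p : (Fin 2 →₀ ℕ) × (Fin 2 →₀ ℕ)), p ∈ Finset.HasAntidiagonal.antidiagonal (idx (a + K) (b + K)) →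
      p ≠ (e₁, e₂) → d ^ b * (d ^ K * (MvPowerSeries.coeff p.1 f * MvPowerSeries.coeff p.2 h)) ∈ I := by
    rintro K ⟨p, p'⟩ hp hne
    rw [Finset.HasAntidiagonal.mem_antidiagonal] at hp
    have hp0 : p 0 + p' 0 = a + K := by simpa using congrArg (fun e : Fin 2 →₀ ℕ => e 0) hp
    have hp1 : p 1 + p' 1 = b + K := by simpa using congrArg (fun e : Fin 2 →₀ ℕ => e 1) hp
    by_cases h1 : p 0 = 0 ∨ p 1 = 0
    swap
    · push Not at h1
      rw [← idx_eta p, hf _ _ (Nat.pos_of_ne_zero h1.1) (Nat.pos_of_ne_zero h1.2)]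
      simp
    by_cases h2 : p' 0 = 0 ∨ p' 1 = 0
    swap
    · push Not at h2
      rw [← idx_eta p', hh _ _ (Nat.pos_of_ne_zero h2.1) (Nat.pos_of_ne_zero h2.2)]
      simp
    have hval : d ^ b * (d ^ K * (MvPowerSeries.coeff p f * MvPowerSeries.coeff p' h)) =
        cN hd f ((p 0 : ℤ) - p 1) * cN hd h ((p' 0 : ℤ) - p' 1) := by
      rw [cN_of_reduced hd hf h1, cN_of_reduced hd hh h2, idx_eta, idx_eta, ← mul_assoc, ← pow_add, ← hp1, pow_add]
      ring
    rw [hval, Ideal.mem_comap, map_mul]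
    have hsum : ((p 0 : ℤ) - p 1) + ((p' 0 : ℤ) - p' 1) = n + m := by omega
    rcases lt_trichotomy ((p 0 : ℤ) - p 1) n with hlt | heq | hgt
    · rw [show α + β + 1 = (α + 1) + β by omega, pow_add]
      exact Ideal.mul_mem_mul (hnmin _ hlt) (hβ _)
    · refine absurd ?_ hne
      have hpe : p = e₁ := by
        ext x; fin_cases x <;> simp [e₁] <;> omega
      have hpe' : p' = e₂ := by
        ext x; fin_cases x <;> simp [e₂] <;> omega
      rw [hpe, hpe']
    · rw [show α + β + 1 = α + (β + 1) by omega, pow_add]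
      exact Ideal.mul_mem_mul (hα _) (hmmin _ (by omega))
  have hmain : cN hd (f * h) (n + m) - cN hd f n * cN hd h m ∈ I := by
    let s : ℕ → D := fun K => if K = K₀ then MvPowerSeries.coeff e₁ f * MvPowerSeries.coeff e₂ h else 0
    have hs : ∀ K, d ^ b * (d ^ K * (MvPowerSeries.coeff (idx (a + K) (b + K)) (f * h) - s K)) ∈ I := by
      intro K
      rw [MvPowerSeries.coeff_mul]
      by_cases hK : K = K₀
      · subst hK
        simp only [s, if_true]
        rw [← Finset.add_sum_erase _ _ (show (e₁, e₂) ∈ Finset.HasAntidiagonal.antidiagonal (idx (a + K) (b + K)) from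
          Finset.HasAntidiagonal.mem_antidiagonal.2 he), add_sub_cancel_left, Finset.mul_sum, Finset.mul_sum]
        exact Ideal.sum_mem _ fun p hp => hterm _ p (Finset.mem_of_mem_erase hp) (Finset.ne_of_mem_erase hp)
      · simp only [s, if_neg hK, sub_zero, Finset.mul_sum]
        refine Ideal.sum_mem _ fun p hp => hterm _ p hp fun hpe => hK ?_
        subst hpe
        rw [Finset.HasAntidiagonal.mem_antidiagonal, he] at hp
        have := congrArg (fun e : Fin 2 →₀ ℕ => e 0) hp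
        simp at this
        omega
    have hsum : d ^ b * sumd hd s = cN hd f n * cN hd h m := by
      have key : ∀ (K : ℕ) (z : D), sumd hd (fun k => if k = K then z else 0) = d ^ K * z := by
        intro K z
        refine eq_of_forall_sub_mem fun N => ?_
        have h1 := sumd_spec hd (fun k => if k = K then z else 0) (N + K + 1)
        rw [Finset.sum_eq_single_of_mem K (Finset.mem_range.2 (by omega)) (fun k _ hk => by rw [if_neg hk, mul_zero]),
          if_pos rfl] at h1
        exact Ideal.pow_le_pow_right (by omega) h1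
      have ef : cN hd f n = d ^ (-n).toNat * MvPowerSeries.coeff e₁ f := by
        rw [← cN_of_reduced hd hf (i := n.toNat) (j := (-n).toNat) (by omega)]
        congr 1; omega
      have eh : cN hd h m = d ^ (-m).toNat * MvPowerSeries.coeff e₂ h := by
        rw [← cN_of_reduced hd hh (i := m.toNat) (j := (-m).toNat) (by omega)]
        congr 1; omega
      rw [key, ef, eh, ← mul_assoc, ← pow_add, hK₂, pow_add]
      ring
    rw [← hsum]
    show d ^ b * _ - _ ∈ I
    rw [← mul_sub, ← sumd_sub]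
    exact mul_sumd_mem hd I _ _ hs
  rw [hzero, zero_sub, neg_mem_iff] at hmain
  exact hnot hmain

end Groth.Agent.NodeAnalytic
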