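import Groth.Agent.NodeAnalytic.Domain
import Groth.Agent.NodeLib.Completion
import Groth.Agent.CplFib6.Quot
import Groth.Agent.S13204

/-!
# The primes `p A` and `p A + (x)` of the analytic node
-/

set_option autoImplicit false
set_option linter.style.haveILetI false
set_option linter.unusedSectionVars false

universe u

open IsLocalRing

namespace Groth.Agent.NodeAnalytic

variable {R : Type u} [CommRing R] [IsLocalRing R] [IsNoetherianRing R] [IsAdicComplete (maximalIdeal R) R]
  (p : Ideal R) [p.IsPrime]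

theorem map_surjective_mk : Function.Surjective
    (MvPowerSeries.map (σ := Fin 2) (Ideal.Quotient.mk p)) := fun f =>
  ⟨fun e => (Ideal.Quotient.mk_surjective (MvPowerSeries.coeff e f)).choose, by
    ext e
    show Ideal.Quotient.mk p (Ideal.Quotient.mk_surjective (MvPowerSeries.coeff e f)).choose = _
    exact (Ideal.Quotient.mk_surjective (MvPowerSeries.coeff e f)).choose_spec⟩

theorem ker_map_mk : RingHom.ker (MvPowerSeries.map (σ := Fin 2) (Ideal.Quotient.mk p)) =
    p.map (MvPowerSeries.C : R →+* MvPowerSeries (Fin 2) R) := by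
  refine le_antisymm (fun f hf => NodeLib.mem_map_C p (IsNoetherian.noetherian p) f fun e => ?_)
    (Ideal.map_le_iff_le_comap.2 fun a ha => ?_)
  · rw [← Ideal.Quotient.eq_zero_iff_mem, ← MvPowerSeries.coeff_map, RingHom.mem_ker.1 hf, map_zero]
  · rw [Ideal.mem_comap, RingHom.mem_ker, MvPowerSeries.map_C, Ideal.Quotient.eq_zero_iff_mem.2 ha, map_zero]

theorem isPrime_sup_node {r : R} (hr : r ∈ maximalIdeal R) (hrp : r ∉ p) :
    (p.map (MvPowerSeries.C : R →+* MvPowerSeries (Fin 2) R) ⊔ Ideal.span {node r}).IsPrime := by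
  haveI : Nontrivial (R ⧸ p) := Ideal.Quotient.nontrivial_iff.2 Ideal.IsPrime.ne_top'
  haveI : IsLocalRing (R ⧸ p) := IsLocalRing.of_surjective' (Ideal.Quotient.mk p) Ideal.Quotient.mk_surjective
  haveI : IsAdicComplete (maximalIdeal (R ⧸ p)) (R ⧸ p) := CplFib6.isAdicComplete_quot p
  have hd : Ideal.Quotient.mk p r ∈ maximalIdeal (R ⧸ p) := by
    rw [← map_maximalIdeal_of_surjective (Ideal.Quotient.mk p) Ideal.Quotient.mk_surjective]
    exact Ideal.mem_map_of_mem _ hr
  have hd0 : Ideal.Quotient.mk p r ≠ 0 := fun h => hrp (Ideal.Quotient.eq_zero_iff_mem.1 h)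
  obtain ⟨V, _, _, _, ι, hmax, hinj⟩ := Groth.Agent.S13204.exists_dvr_dominating (R ⧸ p) fun hF =>
    hd0 ((Submodule.mem_bot _).1 (isField_iff_maximalIdeal_eq.1 hF ▸ hd))
  have h := isPrime_span_node hd hd0 ι hinj (hmax _ hd)
  have e : Ideal.span {node (Ideal.Quotient.mk p r)} =
      (Ideal.span {node r}).map (MvPowerSeries.map (σ := Fin 2) (Ideal.Quotient.mk p)) := by
    simp [node, Ideal.map_span, MvPowerSeries.map_X, MvPowerSeries.map_C]
  rw [e] at h
  rw [← ker_map_mk, sup_comm, RingHom.ker_eq_comap_bot, ← Ideal.comap_map_of_surjective _ (map_surjective_mk p)]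
  exact Ideal.IsPrime.comap _

theorem isPrime_sup_X_zero : (p.map (MvPowerSeries.C : R →+* MvPowerSeries (Fin 2) R) ⊔
    Ideal.span {MvPowerSeries.X 0}).IsPrime := by
  let κ : MvPowerSeries (Fin 2) R →+* MvPowerSeries (Fin 1) (R ⧸ p) :=
    ((MvPowerSeries.map (σ := Fin 1) (Ideal.Quotient.mk p)).comp PowerSeries.constantCoeff).comp
      (MvPowerSeries.finSuccEquiv R 1).toRingEquiv.toRingHom
  suffices h : p.map (MvPowerSeries.C : R →+* MvPowerSeries (Fin 2) R) ⊔ Ideal.span {MvPowerSeries.X 0} =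
      RingHom.ker κ from by
    haveI : IsDomain (MvPowerSeries (Fin 1) (R ⧸ p)) := NoZeroDivisors.to_isDomain _
    exact h ▸ RingHom.ker_isPrime κ
  refine le_antisymm (sup_le (Ideal.map_le_iff_le_comap.2 fun a ha => ?_) ((Ideal.span_singleton_le_iff_mem _).2 ?_))
    fun f hf => ?_
  · simp [κ, Ideal.Quotient.eq_zero_iff_mem.2 ha]
  · simp [κ, RingHom.mem_ker]
  · set F := MvPowerSeries.finSuccEquiv R 1 f
    have h0 : PowerSeries.constantCoeff F ∈ p.map (MvPowerSeries.C : R →+* MvPowerSeries (Fin 1) R) := by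
      refine NodeLib.mem_map_C p (IsNoetherian.noetherian p) _ fun e => ?_
      rw [← Ideal.Quotient.eq_zero_iff_mem, ← MvPowerSeries.coeff_map]
      exact congrArg (MvPowerSeries.coeff e) (RingHom.mem_ker.1 hf) |>.trans (map_zero _)
    obtain ⟨G, hG⟩ : PowerSeries.X ∣ F - PowerSeries.C (PowerSeries.constantCoeff F) :=
      PowerSeries.X_dvd_iff.2 (by simp)
    have h1 : f = (MvPowerSeries.finSuccEquiv R 1).symm (PowerSeries.C (PowerSeries.constantCoeff F)) +
        MvPowerSeries.X 0 * (MvPowerSeries.finSuccEquiv R 1).symm G := by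
      apply (MvPowerSeries.finSuccEquiv R 1).injective
      rw [map_add, map_mul, AlgEquiv.apply_symm_apply, AlgEquiv.apply_symm_apply, MvPowerSeries.finSuccEquiv_X_zero,
        ← hG]
      abel
    rw [h1]
    refine add_mem (Ideal.mem_sup_left ?_) (Ideal.mem_sup_right (Ideal.mul_mem_right _ _ (Ideal.mem_span_singleton_self _)))
    have h2 := Ideal.mem_map_of_mem (((MvPowerSeries.finSuccEquiv R 1).symm.toRingEquiv.toRingHom).comp PowerSeries.C) h0
    rw [Ideal.map_map, RingHom.comp_assoc] at h2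
    convert! h2 using 3
    exact MvPowerSeries.finSuccEquiv_comp_C.symm

theorem isPrime_sup_X (i : Fin 2) : (p.map (MvPowerSeries.C : R →+* MvPowerSeries (Fin 2) R) ⊔
    Ideal.span {MvPowerSeries.X i}).IsPrime := by
  have h := isPrime_sup_X_zero p
  let e : MvPowerSeries (Fin 2) R →+* MvPowerSeries (Fin 2) R :=
    (MvPowerSeries.renameEquiv R (Equiv.swap (0 : Fin 2) i)).toRingEquiv.toRingHom
  have h2 := Ideal.map_isPrime_of_surjective (f := e)
    (MvPowerSeries.renameEquiv R (Equiv.swap (0 : Fin 2) i)).surjective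
    (I := p.map (MvPowerSeries.C : R →+* MvPowerSeries (Fin 2) R) ⊔ Ideal.span {MvPowerSeries.X 0})
    (by
      rw [(RingHom.injective_iff_ker_eq_bot e).1 (MvPowerSeries.renameEquiv R (Equiv.swap (0 : Fin 2) i)).injective]
      exact bot_le)
  rw [Ideal.map_sup, Ideal.map_map, Ideal.map_span, Set.image_singleton] at h2
  convert! h2 using 4
  · ext a : 1; simp [e]
  · simp [e]

end Groth.Agent.NodeAnalytic
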